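import Groth.Agent.L20.LocalCriterion
import Mathlib.RingTheory.Invariant.Basic
import Mathlib.RingTheory.Filtration
import Mathlib.RingTheory.Nakayama
import Mathlib.LinearAlgebra.Dimension.RankNullity
import Mathlib.GroupTheory.OrderOfElement
import Mathlib.RingTheory.LocalRing.ResidueField.Basic

/-!
A finite group of invertible order generated by pseudo-reflections of a local domain: the ring is flat
over its invariants.
-/

set_option autoImplicit false
set_option linter.unusedSectionVars false
universe u

noncomputable section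

namespace Groth.L15.CST

open IsLocalRing TensorProduct

variable {k : Type u} [Field k] {R : Type u} [CommRing R] [IsDomain R] [IsLocalRing R] [IsNoetherianRing R]
  [Algebra k R] {G : Type u} [Group G] [MulSemiringAction G R] [SMulCommClass G k R]

theorem smul_mem (g : G) {x : R} (hx : x ∈ maximalIdeal R) : g • x ∈ maximalIdeal R := by
  rw [mem_maximalIdeal, mem_nonunits_iff] at hx ⊢
  exact fun h => hx (by simpa using h.map (MulSemiringAction.toRingHom G R g⁻¹))

theorem smul_mem_pow (g : G) {N : ℕ} {x : R} (hx : x ∈ maximalIdeal R ^ N) : g • x ∈ maximalIdeal R ^ N := by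
  have h := Ideal.mem_map_of_mem (MulSemiringAction.toRingHom G R g) hx
  rw [Ideal.map_pow] at h
  exact Ideal.pow_right_mono (Ideal.map_le_iff_le_comap.mpr
    (fun y hy => smul_mem g hy : maximalIdeal R ≤ (maximalIdeal R).comap (MulSemiringAction.toRingHom G R g))) N h

variable (k R) in
/-- The residue field is `k`. -/
def RatPt : Prop := ∀ x : R, ∃ c : k, x - algebraMap k R c ∈ maximalIdeal R

theorem smul_sub_mem (hres : RatPt k R) (g : G) (x : R) : g • x - x ∈ maximalIdeal R := by
  obtain ⟨c, hc⟩ := hres x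
  have h := sub_mem (smul_mem g hc) hc
  rwa [smul_sub, smul_algebraMap, sub_sub_sub_cancel_right] at h

/-- Pseudo-reflections (or elements acting trivially on the cotangent space) have principal ideal of
displacements. -/
theorem exists_displacement (hres : RatPt k R) {n : ℕ} (g₀ : Fin n → R)
    (hg₀ : Ideal.span (Set.range g₀) = maximalIdeal R) (s : G) (hs : (orderOf s : k) ≠ 0)
    (hfin : n ≤ Module.finrank k (R ⧸ (Ideal.span {x : R | ∃ a, x = s • a - a} ⊔ maximalIdeal R ^ 2))) :
    ∃ ℓ ∈ maximalIdeal R, ∀ a : R, ∃ b, s • a - a = ℓ * b := by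
  classical
  set m := maximalIdeal R with hm
  set I := Ideal.span {x : R | ∃ a, x = s • a - a} ⊔ m ^ 2
  let π : R →ₐ[k] R ⧸ m ^ 2 := Ideal.Quotient.mkₐ k (m ^ 2)
  -- `R / m²` is spanned by `1` and the generators
  let φ : (k × (Fin n → k)) →ₗ[k] R ⧸ m ^ 2 :=
    (LinearMap.toSpanSingleton k _ 1).coprod (Fintype.linearCombination k (fun i => π (g₀ i)))
  have hφ : Function.Surjective φ := by
    intro y
    obtain ⟨x, rfl⟩ := Ideal.Quotient.mk_surjective y
    obtain ⟨c, hc⟩ := hres x
    obtain ⟨r, hr⟩ := Ideal.mem_span_range_iff_exists_fun.mp (hg₀.ge hc)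
    choose d hd using fun i => hres (r i)
    refine ⟨(c, d), ?_⟩
    have h1 : x - (algebraMap k R c + ∑ i, algebraMap k R (d i) * g₀ i) ∈ m ^ 2 := by
      rw [← sub_sub, ← hr, ← Finset.sum_sub_distrib]
      refine sum_mem fun i _ => ?_
      rw [← sub_mul, sq]
      exact Ideal.mul_mem_mul (hd i) (hg₀.le (Ideal.subset_span ⟨i, rfl⟩))
    rw [show Ideal.Quotient.mk (m ^ 2) x = π (algebraMap k R c + ∑ i, algebraMap k R (d i) * g₀ i) from
      Ideal.Quotient.eq.mpr h1]
    simp [φ, Fintype.linearCombination_apply, Algebra.smul_def, π]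
  haveI : Module.Finite k (R ⧸ m ^ 2) := Module.Finite.of_surjective φ hφ
  have hdim : Module.finrank k (R ⧸ m ^ 2) ≤ 1 + n :=
    (LinearMap.finrank_le_finrank_of_surjective hφ).trans (by simp [Module.finrank_prod])
  let q : (R ⧸ m ^ 2) →ₐ[k] R ⧸ I := Ideal.Quotient.factorₐ k le_sup_right
  have hq : Function.Surjective q := Ideal.Quotient.factor_surjective le_sup_right
  let T : m →ₗ[k] R ⧸ m ^ 2 :=
    { toFun := fun x => π (s • (x : R) - x)
      map_add' := fun x y => by rw [← map_add]; congr 1; push_cast; rw [smul_add]; ring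
      map_smul' := fun c x => by
        rw [RingHom.id_apply, ← map_smul]; congr 1
        rw [Submodule.coe_smul_of_tower, smul_comm s c, smul_sub] }
  have hT : LinearMap.range T ≤ LinearMap.ker q.toLinearMap := by
    rintro _ ⟨x, rfl⟩
    exact Ideal.Quotient.eq_zero_iff_mem.mpr (Ideal.mem_sup_left (Ideal.subset_span ⟨_, rfl⟩))
  have hle1 : Module.finrank k (LinearMap.range T) ≤ 1 := by
    have h1 := LinearMap.finrank_range_add_finrank_ker q.toLinearMap
    have h2 : Module.finrank k (LinearMap.range q.toLinearMap) = Module.finrank k (R ⧸ I) := by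
      rw [LinearMap.range_eq_top.mpr hq, finrank_top]
    have h3 := Submodule.finrank_mono hT
    omega
  obtain ⟨⟨v, hv⟩, hspan⟩ := finrank_le_one_iff.mp hle1
  obtain ⟨z, rfl⟩ := hv
  -- the maximal ideal is generated by fixed elements and `z`
  set F : Set R := insert (z : R) {x | x ∈ m ∧ s • x = x}
  have hsup : m ≤ Ideal.span F ⊔ m • m := by
    intro x hx
    obtain ⟨c, hc⟩ := hspan ⟨T ⟨x, hx⟩, ⟨_, rfl⟩⟩
    have hc' : c • T z = T ⟨x, hx⟩ := congrArg Subtype.val hc
    set x' : R := x - c • (z : R) with hx'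
    have hx'm : x' ∈ m := sub_mem hx (Submodule.smul_of_tower_mem _ c z.2)
    have h2 : s • x' - x' ∈ m ^ 2 := by
      refine Ideal.Quotient.eq_zero_iff_mem.mp ?_
      show π (s • x' - x') = 0
      have : T ⟨x', hx'm⟩ = 0 := by
        rw [show (⟨x', hx'm⟩ : m) = ⟨x, hx⟩ - c • z from rfl, map_sub, map_smul, hc', sub_self]
      exact this
    have hj : ∀ j : ℕ, s ^ j • x' - x' ∈ m ^ 2 := by
      intro j
      induction j with
      | zero => simp
      | succ j ih =>
        have h := add_mem (smul_mem_pow s ih) h2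
        rwa [smul_sub, sub_add_sub_cancel, ← mul_smul, ← pow_succ'] at h
    set N := orderOf s
    set y : R := algebraMap k R (N : k)⁻¹ * ∑ j ∈ Finset.range N, s ^ j • x' with hy
    have hN0 : N ≠ 0 := fun h => hs (by rw [h, Nat.cast_zero])
    have hyfix : s • y = y := by
      rw [hy, MulSemiringAction.smul_mul, smul_algebraMap, Finset.smul_sum]
      congr 1
      obtain ⟨M, hM⟩ := Nat.exists_eq_succ_of_ne_zero hN0
      have hsN : s ^ (M + 1) = 1 := by rw [← Nat.succ_eq_add_one, ← hM]; exact pow_orderOf_eq_one s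
      rw [hM, Finset.sum_range_succ' (fun j => s ^ j • x'), pow_zero, one_smul, Finset.sum_range_succ]
      simp only [← mul_smul, ← pow_succ', hsN, one_smul]
    have hyx : x' - y ∈ m ^ 2 := by
      have h : algebraMap k R (N : k)⁻¹ * ∑ j ∈ Finset.range N, (s ^ j • x' - x') ∈ m ^ 2 :=
        Ideal.mul_mem_left _ _ (sum_mem fun j _ => hj j)
      rw [Finset.sum_sub_distrib, mul_sub, Finset.sum_const, Finset.card_range, ← hy, nsmul_eq_mul, ← mul_assoc,
        ← map_natCast (algebraMap k R), ← map_mul, inv_mul_cancel₀ hs, map_one, one_mul] at h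
      simpa using neg_mem h
    have hym : y ∈ m := by simpa using sub_mem hx'm (Ideal.pow_le_self (two_ne_zero) hyx)
    have : x = (c • (z : R) + y) + (x' - y) := by rw [hx']; ring
    rw [this]
    refine Submodule.add_mem_sup (add_mem ?_ (Ideal.subset_span (Set.mem_insert_of_mem _ ⟨hym, hyfix⟩))) ?_
    · exact Submodule.smul_of_tower_mem _ c (Ideal.subset_span (Set.mem_insert _ _))
    · rwa [smul_eq_mul, ← sq]
  have hspanm : m ≤ Ideal.span F :=
    Submodule.le_of_le_smul_of_le_jacobson_bot (IsNoetherian.noetherian m)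
      (IsLocalRing.jacobson_eq_maximalIdeal ⊥ bot_ne_top).ge hsup
  set ℓ : R := s • (z : R) - z
  refine ⟨ℓ, sub_mem (smul_mem s z.2) z.2, fun a => ?_⟩
  have key : ∀ N : ℕ, ∀ a : R, s • a - a ∈ Ideal.span {ℓ} ⊔ m ^ N := by
    intro N
    induction N with
    | zero => exact fun a => by simp
    | succ N ih =>
      intro a
      obtain ⟨c, hc⟩ := hres a
      suffices h : ∀ x ∈ Ideal.span F, ∀ r : R, s • (r * x) - r * x ∈ Ideal.span {ℓ} ⊔ m ^ (N + 1) by
        have h' := h _ (hspanm hc) 1
        rwa [one_mul, smul_sub, smul_algebraMap, sub_sub_sub_cancel_right] at h'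
      have hmul : ∀ x ∈ m, ∀ b ∈ Ideal.span {ℓ} ⊔ m ^ N, x * b ∈ Ideal.span {ℓ} ⊔ m ^ (N + 1) := by
        intro x hx b hb
        obtain ⟨b₁, hb₁, b₂, hb₂, rfl⟩ := Submodule.mem_sup.mp hb
        rw [mul_add]
        exact Submodule.add_mem_sup (Ideal.mul_mem_left _ _ hb₁) (by rw [pow_succ']; exact Ideal.mul_mem_mul hx hb₂)
      intro x hx
      induction hx using Submodule.span_induction with
      | mem y hy =>
        intro r
        have h1 : s • (r * y) - r * y = s • r * (s • y - y) + y * (s • r - r) := by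
          rw [MulSemiringAction.smul_mul]; ring
        rw [h1]
        rcases hy with rfl | ⟨hym, hyf⟩
        · exact add_mem (Ideal.mem_sup_left (Ideal.mul_mem_left _ _ (Ideal.mem_span_singleton_self ℓ)))
            (hmul _ z.2 _ (ih r))
        · rw [hyf, sub_self, mul_zero, zero_add]
          exact hmul _ hym _ (ih r)
      | zero => intro r; simp
      | add x y _ _ hx hy =>
        intro r
        rw [mul_add, smul_add, add_sub_add_comm]
        exact add_mem (hx r) (hy r)
      | smul t x _ hx =>
        intro r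
        rw [smul_eq_mul, ← mul_assoc]
        exact hx (r * t)
  have h0 : Ideal.Quotient.mk (Ideal.span {ℓ}) (s • a - a) ∈
      (⨅ i : ℕ, m ^ i • (⊤ : Submodule R (R ⧸ Ideal.span {ℓ}))) := by
    rw [Submodule.mem_iInf]
    intro i
    obtain ⟨b₁, hb₁, b₂, hb₂, he⟩ := Submodule.mem_sup.mp (key i a)
    rw [← he, map_add, Ideal.Quotient.eq_zero_iff_mem.mpr hb₁, zero_add,
      show Ideal.Quotient.mk (Ideal.span {ℓ}) b₂ = b₂ • (1 : R ⧸ Ideal.span {ℓ}) by
        rw [Algebra.smul_def, mul_one]; rfl]
    exact Submodule.smul_mem_smul hb₂ Submodule.mem_top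
  rw [Ideal.iInf_pow_smul_eq_bot_of_isLocalRing m (maximalIdeal.isMaximal R).ne_top, Submodule.mem_bot,
    Ideal.Quotient.eq_zero_iff_mem, Ideal.mem_span_singleton] at h0
  exact h0

section Flat

variable [Finite G] (A : Subalgebra k R) (hA : ∀ a : R, a ∈ A ↔ ∀ g : G, g • a = a)

include hA in
theorem isUnit_iff {a : A} : IsUnit a ↔ IsUnit (a : R) := by
  refine ⟨fun h => h.map A.val, fun h => ?_⟩
  obtain ⟨u, hu⟩ := h
  have hinv : (↑u⁻¹ : R) ∈ A := (hA _).mpr fun g => by
    refine u.isUnit.mul_left_cancel ?_
    conv_lhs => rw [show (u : R) = g • (u : R) by rw [hu, (hA _).mp a.2 g], ← MulSemiringAction.smul_mul,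
      Units.mul_inv, smul_one]
    exact u.mul_inv.symm
  exact IsUnit.of_mul_eq_one ⟨_, hinv⟩ (Subtype.ext (by rw [Subalgebra.coe_mul, ← hu]; exact u.mul_inv))

include hA in
theorem isLocalRing : IsLocalRing A :=
  IsLocalRing.of_isUnit_or_isUnit_one_sub_self fun a =>
    (IsLocalRing.isUnit_or_isUnit_one_sub_self (a : R)).imp (isUnit_iff A hA).mpr
      fun h => (isUnit_iff A hA).mpr (by simpa using h)

include hA in
/-- The invariants are a direct summand. -/
theorem exists_reynolds (hG : (Nat.card G : k) ≠ 0) : ∃ τ : R →ₗ[A] A, (∀ a : A, τ (a : R) = a) ∧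
    ∀ r : R, (τ r : R) = algebraMap k R (Nat.card G : k)⁻¹ * ∑ᶠ g : G, g • r := by
  classical
  haveI := Fintype.ofFinite G
  simp only [finsum_eq_sum_of_fintype]
  have hmem : ∀ r : R, algebraMap k R (Nat.card G : k)⁻¹ * ∑ g : G, g • r ∈ A := fun r => (hA _).mpr fun h => by
    rw [MulSemiringAction.smul_mul, smul_algebraMap, Finset.smul_sum]
    congr 1
    simp only [← mul_smul]
    exact Fintype.sum_equiv (Equiv.mulLeft h) _ _ fun _ => rfl
  refine ⟨{ toFun := fun r => ⟨_, hmem r⟩, map_add' := fun x y => Subtype.ext ?_, map_smul' := fun a r => Subtype.ext ?_ },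
    fun a => Subtype.ext ?_, fun r => rfl⟩
  · simp only [smul_add, Finset.sum_add_distrib, mul_add, Subalgebra.coe_add]
  · show _ * ∑ g : G, g • ((a : R) * r) = (a : R) * (_ * ∑ g : G, g • r)
    simp only [MulSemiringAction.smul_mul, (hA _).mp a.2, ← Finset.mul_sum]
    ring
  · show _ * ∑ g : G, g • (a : R) = (a : R)
    simp only [(hA _).mp a.2, Finset.sum_const, Finset.card_univ, nsmul_eq_mul]
    rw [← mul_assoc, ← map_natCast (algebraMap k R), ← map_mul, ← Nat.card_eq_fintype_card, inv_mul_cancel₀ hG,
      map_one, one_mul]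

include hA in
theorem isNoetherianRing (hG : (Nat.card G : k) ≠ 0) : IsNoetherianRing A := by
  obtain ⟨τ, hτ, -⟩ := exists_reynolds A hA hG
  have h : ∀ I : Ideal A, (I.map (algebraMap A R)).comap (algebraMap A R) ≤ I := by
    intro I a ha
    suffices h : ∀ x ∈ I.map (algebraMap A R), ∀ r : R, τ (r * x) ∈ I by
      simpa [hτ] using h _ ha 1
    intro x hx
    induction hx using Submodule.span_induction with
    | mem y hy =>
      obtain ⟨i, hi, rfl⟩ := hy
      intro r
      rw [mul_comm, ← Algebra.smul_def, map_smul, smul_eq_mul]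
      exact I.mul_mem_right _ hi
    | zero => intro r; simp
    | add a b _ _ ha hb => intro r; rw [mul_add, map_add]; exact add_mem (ha r) (hb r)
    | smul t a _ ha => intro r; rw [smul_eq_mul, ← mul_assoc]; exact ha (r * t)
  rw [isNoetherianRing_iff, isNoetherian_iff']
  exact StrictMono.wellFoundedGT (f := fun I : Ideal A => I.map (algebraMap A R)) (fun I J hIJ =>
    lt_of_le_of_ne (Ideal.map_mono hIJ.le) fun he => hIJ.not_ge
      ((Ideal.le_comap_map.trans (Ideal.comap_mono he.ge)).trans (h I)))

include hA in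
theorem flat (hres : RatPt k R) {n : ℕ} (g₀ : Fin n → R) (hg₀ : Ideal.span (Set.range g₀) = maximalIdeal R)
    (hG : (Nat.card G : k) ≠ 0) [Module.Finite A R]
    (hgen : Subgroup.closure {g : G | n ≤ Module.finrank k
      (R ⧸ (Ideal.span {x : R | ∃ a, x = g • a - a} ⊔ maximalIdeal R ^ 2))} = ⊤) : Module.Flat A R := by
  classical
  haveI := Fintype.ofFinite G
  haveI := isLocalRing A hA
  haveI := isNoetherianRing A hA hG
  haveI : IsLocalHom (algebraMap A R) := ⟨fun a ha => (isUnit_iff A hA).mpr ha⟩
  obtain ⟨τ, hτ, hτ'⟩ := exists_reynolds A hA hG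
  let act : G → R →ₗ[A] R := fun g =>
    { toFun := fun r => g • r
      map_add' := smul_add g
      map_smul' := fun a r => by
        show g • ((a : R) * r) = (a : R) * g • r
        rw [MulSemiringAction.smul_mul, (hA _).mp a.2] }
  let M := maximalIdeal A
  let μ : R ⊗[A] M →ₗ[R] R :=
    (TensorProduct.AlgebraTensorModule.rid A R R).toLinearMap ∘ₗ (Submodule.subtype M).baseChange R
  have hμ : ∀ (r : R) (x : M), μ (r ⊗ₜ x) = ((x : A) : R) * r := fun r x => by
    simp [μ, Algebra.smul_def]
  have hμf : ∀ (f : R →ₗ[A] R) (e : R ⊗[A] M), μ (f.rTensor M e) = f (μ e) := fun f e => by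
    induction e using TensorProduct.induction_on with
    | zero => simp
    | tmul r x =>
      rw [LinearMap.rTensor_tmul, hμ, hμ]
      exact (f.map_smul (x : A) r).symm
    | add x y hx hy => simp only [map_add, hx, hy]
  set E := LinearMap.ker μ with hE
  have hstep : ∀ g : G, ∀ e ∈ E, (act g).rTensor M e - e ∈ maximalIdeal R • E := by
    intro g
    have hg : g ∈ Subgroup.closure {g : G | n ≤ Module.finrank k
        (R ⧸ (Ideal.span {x : R | ∃ a, x = g • a - a} ⊔ maximalIdeal R ^ 2))} := hgen ▸ Subgroup.mem_top g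
    have hmul : ∀ a b : G, ∀ e : R ⊗[A] M,
        (act (a * b)).rTensor M e = (act a).rTensor M ((act b).rTensor M e) := fun a b e => by
      rw [← LinearMap.rTensor_comp_apply]
      congr 2
      exact LinearMap.ext fun r => mul_smul a b r
    have hone : ∀ e : R ⊗[A] M, (act 1).rTensor M e = e := fun e => by
      rw [show act 1 = LinearMap.id from LinearMap.ext fun r => one_smul G r, LinearMap.rTensor_id]
      rfl
    have hmemE : ∀ (a : G) (e : R ⊗[A] M), e ∈ E → (act a).rTensor M e ∈ E := fun a e he => by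
      rw [hE, LinearMap.mem_ker] at he ⊢
      rw [hμf, he, map_zero]
    induction hg using Subgroup.closure_induction with
    | mem s hs =>
      intro e he
      have hord : (orderOf s : k) ≠ 0 := fun h0 => hG (by
        obtain ⟨c, hc⟩ := orderOf_dvd_natCard (G := G) s
        rw [hc, Nat.cast_mul, h0, zero_mul])
      obtain ⟨ℓ, hℓm, hℓ⟩ := exists_displacement hres g₀ hg₀ s hord hs
      choose b hb using hℓ
      by_cases hℓ0 : ℓ = 0
      · rw [show act s = LinearMap.id from LinearMap.ext fun r => by
          have := hb r; rw [hℓ0, zero_mul, sub_eq_zero] at this; exact this, LinearMap.rTensor_id, LinearMap.id_apply,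
          sub_self]
        exact Submodule.zero_mem _
      let δ : R →ₗ[A] R :=
        { toFun := b
          map_add' := fun x y => mul_left_cancel₀ hℓ0 (by rw [mul_add, ← hb, ← hb, ← hb, smul_add]; ring)
          map_smul' := fun a x => mul_left_cancel₀ hℓ0 (by
            rw [RingHom.id_apply, ← hb]
            show s • ((a : R) * x) - (a : R) * x = ℓ * ((a : R) * b x)
            rw [MulSemiringAction.smul_mul, (hA _).mp a.2, ← mul_sub, hb]; ring) }
      have key : ∀ e' : R ⊗[A] M, (act s).rTensor M e' - e' = ℓ • δ.rTensor M e' := fun e' => by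
        induction e' using TensorProduct.induction_on with
        | zero => simp
        | tmul r x =>
          rw [LinearMap.rTensor_tmul, LinearMap.rTensor_tmul, ← TensorProduct.sub_tmul, TensorProduct.smul_tmul',
            smul_eq_mul]
          exact congrArg (· ⊗ₜ x) (hb r)
        | add x y hx hy => rw [map_add, map_add, smul_add, add_sub_add_comm, hx, hy]
      rw [key]
      refine Submodule.smul_mem_smul hℓm ?_
      rw [hE, LinearMap.mem_ker] at he ⊢
      rw [hμf, he, map_zero]
    | one => intro e _; rw [hone, sub_self]; exact Submodule.zero_mem _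
    | mul a b _ _ ha hb =>
      intro e he
      rw [hmul, show (act a).rTensor M ((act b).rTensor M e) - e =
        ((act a).rTensor M ((act b).rTensor M e) - (act b).rTensor M e) + ((act b).rTensor M e - e) by abel]
      exact add_mem (ha _ (hmemE b e he)) (hb e he)
    | inv a _ ha =>
      intro e he
      have h := ha _ (hmemE a⁻¹ e he)
      rw [← hmul, mul_inv_cancel, hone] at h
      simpa using Submodule.neg_mem _ h
  have hEm : E ≤ maximalIdeal R • E := by
    intro e he
    have h1 : ((Algebra.linearMap A R).comp τ).rTensor M e = 0 := by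
      have h2 : TensorProduct.lid A M (τ.rTensor M e) = 0 := by
        refine Subtype.ext (Subtype.ext ?_)
        have h3 : ∀ e : R ⊗[A] M, (((TensorProduct.lid A M (τ.rTensor M e) : M) : A) : R) =
            ((Algebra.linearMap A R).comp τ) (μ e) := fun e => by
          induction e using TensorProduct.induction_on with
          | zero => simp
          | tmul r x =>
            rw [hμ, LinearMap.rTensor_tmul, TensorProduct.lid_tmul]
            show ((τ r • (x : A) : A) : R) = (τ ((x : A) • r) : R)
            rw [map_smul, smul_eq_mul, smul_eq_mul, mul_comm]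
          | add x y hx hy => simp only [map_add, Submodule.coe_add, Subalgebra.coe_add, hx, hy]
        rw [h3, LinearMap.mem_ker.mp he, map_zero]
        rfl
      rw [LinearMap.rTensor_comp_apply, (LinearEquiv.map_eq_zero_iff _).mp h2, map_zero]
    have h4 : ∀ e : R ⊗[A] M, ((Algebra.linearMap A R).comp τ).rTensor M e =
        algebraMap k R (Nat.card G : k)⁻¹ • ∑ g : G, (act g).rTensor M e := fun e => by
      induction e using TensorProduct.induction_on with
      | zero => simp
      | tmul r x =>
        simp only [LinearMap.rTensor_tmul, ← TensorProduct.sum_tmul, TensorProduct.smul_tmul', smul_eq_mul]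
        congr 1
        show (τ r : R) = _
        rw [hτ', finsum_eq_sum_of_fintype]
        rfl
      | add x y hx hy => simp only [map_add, Finset.sum_add_distrib, smul_add, hx, hy]
    have h5 : algebraMap k R (Nat.card G : k)⁻¹ • ∑ g : G, ((act g).rTensor M e - e) ∈ maximalIdeal R • E :=
      Submodule.smul_mem _ _ (Submodule.sum_mem _ fun g _ => hstep g e he)
    rw [Finset.sum_sub_distrib, smul_sub, ← h4, h1, zero_sub, Finset.sum_const, Finset.card_univ,
      ← Nat.cast_smul_eq_nsmul R, smul_smul, ← map_natCast (algebraMap k R), ← map_mul, ← Nat.card_eq_fintype_card,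
      inv_mul_cancel₀ hG, map_one, one_smul] at h5
    simpa using Submodule.neg_mem _ h5
  haveI : IsNoetherian R (R ⊗[A] M) := isNoetherian_of_isNoetherianRing_of_finite R _
  have hE0 : E = ⊥ := Submodule.eq_bot_of_le_smul_of_le_jacobson_bot (maximalIdeal R) E
    (IsNoetherian.noetherian E) hEm (IsLocalRing.jacobson_eq_maximalIdeal ⊥ bot_ne_top).ge
  refine Groth.L20.flat_of_lTensor_maximalIdeal_injective R ?_
  rw [injective_iff_map_eq_zero]
  intro e he
  have h6 : e ∈ E := by
    rw [hE, LinearMap.mem_ker]
    show (TensorProduct.AlgebraTensorModule.rid A R R) ((Submodule.subtype M).baseChange R e) = 0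
    rw [LinearMap.baseChange_eq_ltensor]
    erw [he]
    rw [map_zero]
  simpa [hE0] using h6

end Flat

end Groth.L15.CST
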